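import Cfsg.Agent.H83.TF8.Par
import Cfsg.Agent.H84.TF8.Torus
import Cfsg.Agent.H961.TF8.Zero

/-!
# `²F₄(8)`: the frame `P, U_P, L, n` of helper961's theorem on Harish-Chandra series (helper83)

`pow_Pa`, `frame_Pa`, `ker_Pa`.
-/

set_option autoImplicit false
set_option linter.unusedSectionVars false

namespace Cfsg.Agent.H83.TF8

open Cfsg.Agent.SplitTwo Cfsg.Agent.SplitTwo.ZS Cfsg.Agent.TitsThree.RankTwoZ
open Cfsg.Agent.KFacts.TwF4 Cfsg.Agent.KFacts.TwF4.Arc Cfsg.Agent.KFacts.TwF4.Inv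
open Cfsg.Agent.H84.TwF4Two Cfsg.Agent.H84.GaussTwF4 Cfsg.Agent.H84.TF8
open Cfsg Cfsg.Agent.Characters

universe u

variable {F : Type*} [Field F] {σ : F →+* F} {G : Type u} [Group G] {S : Full σ G} [Finite F]

/-- **(EXP)** -/
theorem pow_Pa [Finite G] (hF : Nat.card F = 8) {p : G} (hp : p ∈ Pa S) : p ^ 1820 ∈ J S.XZ 1 7 := by
  exact pow_mem (Pi := Pa S) (LS := LL S) (Z := Zz S) (fun p hp => hp) (fun p hp u hu => UP_normal hp hu) LL_le_Pa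
    Zz_le_Pa (fun l hl z hz => (Zz_comm hz hl).symm) (fun l hl => pow_LL S hF hl) (fun z hz => pow_T' S hF (Zz_le_T hz)) hp

theorem nn_not_mem : nn S ∉ Pa S := by
  intro h
  have h1 : Refl S.XZ (2 * 0) (nn S) := by simpa using nn_refl (S := S)
  have := refl_Pa h1 h le_rfl (by norm_num)
  omega

/-- **The frame.** -/
theorem frame_Pa (hopp : ∀ x ∈ Bo S, x ∈ J S.XZ 9 16 → x = 1) :
    H961.TF8.Frame (Pa S) (J S.XZ 1 7) (LL S ⊔ Zz S) (nn S) where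
  hU := UP_le
  hL := sup_le LL_le_Pa Zz_le_Pa
  fac := by
    rintro _ ⟨u, hu, l, hl, z, hz, rfl⟩
    exact ⟨u, hu, l * z, mul_mem ((le_sup_left : LL S ≤ _) hl) ((le_sup_right : Zz S ≤ _) hz), by group⟩
  nrm := fun l hl u hu => UP_normal ((sup_le LL_le_Pa Zz_le_Pa : LL S ⊔ Zz S ≤ Pa S) hl) hu
  sq := nn_sq
  nmem := nn_not_mem
  opp := fun u hu h => UP_inter hopp hu (by rwa [nn_inv])
  wL := by
    intro l hl
    have h : LL S ⊔ Zz S ≤ (LL S ⊔ Zz S).comap (MulAut.conj (nn S)).toMonoidHom := by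
      refine sup_le ?_ ?_
      · intro x hx
        show nn S * x * (nn S)⁻¹ ∈ LL S ⊔ Zz S
        rw [nn_LL hx, mul_inv_cancel_right]
        exact (le_sup_left : LL S ≤ _) hx
      · intro x hx
        show nn S * x * (nn S)⁻¹ ∈ LL S ⊔ Zz S
        rw [nn_Zz hx]
        exact (le_sup_right : Zz S ≤ _) (inv_mem hx)
    have h1 : nn S * l * (nn S)⁻¹ ∈ LL S ⊔ Zz S := h hl
    rwa [nn_inv] at h1

/-- the Levi factor is `LL · Zz` -/
theorem mem_L {g : G} (hg : g ∈ LL S ⊔ Zz S) : ∃ l ∈ LL S, ∃ z ∈ Zz S, g = l * z := by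
  let M : Subgroup G :=
    { carrier := {g | ∃ l ∈ LL S, ∃ z ∈ Zz S, g = l * z}
      one_mem' := ⟨1, one_mem _, 1, one_mem _, by rw [mul_one]⟩
      mul_mem' := by
        rintro _ _ ⟨l, hl, z, hz, rfl⟩ ⟨l', hl', z', hz', rfl⟩
        refine ⟨l * l', mul_mem hl hl', z * z', mul_mem hz hz', ?_⟩
        have h := Zz_comm hz hl'
        calc l * z * (l' * z') = l * (z * l') * z' := by group
          _ = _ := by rw [h]; group
      inv_mem' := by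
        rintro _ ⟨l, hl, z, hz, rfl⟩
        refine ⟨l⁻¹, inv_mem hl, z⁻¹, inv_mem hz, ?_⟩
        have h := Zz_comm (inv_mem hz) (inv_mem hl)
        rw [mul_inv_rev, h] }
  have h : LL S ⊔ Zz S ≤ M := sup_le (fun l hl => ⟨l, hl, 1, one_mem _, by rw [mul_one]⟩)
    (fun z hz => ⟨1, one_mem _, z, hz, by rw [one_mul]⟩)
  exact h hg

theorem nn_comm_mem {l : G} (hl : l ∈ LL S ⊔ Zz S) : nn S * l * nn S * l⁻¹ ∈ Zz S := by
  obtain ⟨a, ha, z, hz, rfl⟩ := mem_L hl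
  have h1 := nn_LL ha
  have h2 := nn_Zz hz
  have h3 := Zz_comm (mul_mem (inv_mem hz) (inv_mem hz)) ha
  rw [nn_inv] at h2
  have h4 : nn S * (a * z) * nn S * (a * z)⁻¹ = z⁻¹ * z⁻¹ := by
    calc nn S * (a * z) * nn S * (a * z)⁻¹ = (nn S * a) * z * nn S * z⁻¹ * a⁻¹ := by group
      _ = a * (nn S * z * nn S) * z⁻¹ * a⁻¹ := by rw [h1]; group
      _ = a * (z⁻¹ * z⁻¹) * a⁻¹ := by rw [h2]; group
      _ = z⁻¹ * z⁻¹ := by rw [← h3]; group
  rw [h4]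
  exact mul_mem (inv_mem hz) (inv_mem hz)

/-- **The condition on the character.** -/
theorem ker_Pa (hopp : ∀ x ∈ Bo S, x ∈ J S.XZ 9 16 → x = 1) {ψ : ↥(Pa S) → ℂ}
    (h1 : ∀ u : ↥(Pa S), (u : G) ∈ J S.XZ 1 7 → ψ u = ψ 1) (h2 : ∀ z : ↥(Pa S), (z : G) ∈ Zz S → ψ z = ψ 1) :
    H961.TF8.Ker (frame_Pa hopp) ψ where
  one := h1
  lev := by
    rintro k ⟨l, hl, hk⟩
    exact h2 k (by rw [hk]; exact nn_comm_mem hl)

end Cfsg.Agent.H83.TF8
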