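import Cfsg.Agent.H84.SzLevi

/-!
# `²F₄(8)`: the Levi factor `⟨X_0, X_8⟩ ≅ Sz(8)` has order `29120` and exponent dividing `1820` (helper83)

`card_LL`, `pow_LL`; `pow_mem` : hence `p ^ 1820` lies in the unipotent radical for all `p` of the parabolic subgroup.
-/

set_option autoImplicit false
set_option linter.unusedSectionVars false

namespace Cfsg.Agent.H83.TF8

open Cfsg.Agent.SplitTwo Cfsg.Agent.SplitTwo.ZS Cfsg.Agent.TitsThree.RankTwoZ
open Cfsg.Agent.KFacts.TwF4 Cfsg.Agent.KFacts.TwF4.Arc Cfsg.Agent.KFacts.TwF4.Inv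
open Cfsg.Agent.H84.TwF4Two Cfsg.Agent.H67.TwFFourOdd Cfsg.Agent.H67.RankTwo Cfsg.Agent.H67.RankOneId
open Cfsg.Agent.H84.GaussTwF4

universe u

section full

variable {F : Type*} [Field F] {σ : F →+* F} {G : Type u} [Group G] (S : Full σ G) [Finite F] [Finite G]

/-- **The order of the Levi factor.** -/
theorem card_LL {k : ℕ} (hk : 2 ≤ k) (hF : Nat.card F = 2 ^ k) :
    Nat.card ↥(LL S) = ((2 ^ k) ^ 2 * (2 ^ k - 1)) * ((2 ^ k) ^ 2 + 1) := by
  have h4 : 4 ≤ Nat.card F := by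
    rw [hF]
    calc 4 = 2 ^ 2 := rfl
      _ ≤ 2 ^ k := Nat.pow_le_pow_right (by norm_num) hk
  have hTo : Odd (Nat.card ↥(torus (cc S).X)) := by
    rw [card_torus, hF]
    exact (Nat.Even.sub_odd Nat.one_le_two_pow ((Nat.even_pow' (by omega)).mpr even_two) odd_one).pow
  have D := rkOne_of (cc S).X (i := (8 : ℕ)) (j := 0) (e := (8 : ℕ)) (by ring)
    (L := LJ (cc S).X) le_sup_left le_rfl (cc S).muJ (n2_mem S) S.n2_sq (maps_n2 S)
    (pX S (8 : ℕ)) hTo (by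
      have h1 := opp_inf S.R 0
      rw [zero_add, inf_comm] at h1
      exact h1) (by
      obtain ⟨x, hx0, hx1⟩ := exists_ne h4
      refine ⟨_, (memX8 S).2 ⟨0, 1, rfl⟩, _, (memX8 S).2 ⟨0, x, rfl⟩, ?_, ?_, ?_, ?_, ?_, ?_⟩
      · exact fun h => one_ne_zero (S.injE 4 _ _ _ _ (h.trans (e_zero S 4).symm)).2
      · exact fun h => hx0 (S.injE 4 _ _ _ _ (h.trans (e_zero S 4).symm)).2
      · exact fun h => hx1 (S.injE 4 _ _ _ _ h).2.symm
      · rw [S.e_mul, zero_mul, add_zero, add_zero, add_self S, e_zero]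
      · rw [S.e_mul, zero_mul, add_zero, add_zero, add_self S, e_zero]
      · rw [S.e_mul, S.e_mul, zero_mul, add_comm 1 x])
  have hT := (rkJ S hk hF).2
  have hA : Nat.card ↥(((cc S).X (8 : ℕ)).subgroupOf (LJ (cc S).X)) = (2 ^ k) ^ 2 := by
    have h0 : (cc S).X (8 : ℕ) ⊓ LJ (cc S).X = (cc S).X (8 : ℕ) := inf_eq_left.2 le_sup_left
    rw [card_subgroupOf_eq, h0, card_X8, hF]
  have hT' : Nat.card ↥((torus (cc S).X).subgroupOf (LJ (cc S).X)) = 2 ^ k - 1 := by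
    rw [card_subgroupOf_eq]; exact hT
  have h1 := (((cc S).X (8 : ℕ)).subgroupOf (LJ (cc S).X) ⊔ (torus (cc S).X).subgroupOf (LJ (cc S).X)).card_mul_index
  rw [D.card_H, D.data.index, hA, hT'] at h1
  rw [← LJ_eq, ← h1]

/-- The elements of `X_8` have order dividing `4`. -/
theorem pow_four {x : G} (hx : x ∈ (cc S).X (8 : ℕ)) : x ^ 4 = 1 := by
  obtain ⟨p, u, rfl⟩ := (memX8 S).1 hx
  rw [Cfsg.Agent.H84.SzLevi.four_eq, S.e_mul, add_self S p, S.e_mul, zero_mul, add_zero, add_zero, add_self S, e_zero]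

/-- **`l ^ 1820 = 1` in `Sz(8)`.** -/
theorem pow_LL (hF : Nat.card F = 8) {l : G} (hl : l ∈ LL S) : l ^ 1820 = 1 := by
  have hF' : Nat.card F = 2 ^ 3 := by rw [hF]; norm_num
  have hc : Nat.card ↥(LL S) = 29120 := by rw [card_LL S (by norm_num) hF']; norm_num
  have hp : Fact (Nat.Prime 2) := ⟨Nat.prime_two⟩
  have hle : (cc S).X (8 : ℕ) ≤ LL S := by
    rw [← LJ_eq]; exact le_sup_left
  have hA : Nat.card ↥(((cc S).X (8 : ℕ)).subgroupOf (LL S)) = 2 ^ (Nat.card ↥(LL S)).factorization 2 := by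
    have h0 : (cc S).X (8 : ℕ) ⊓ LL S = (cc S).X (8 : ℕ) := inf_eq_left.2 hle
    have h1 : (29120 : ℕ).factorization 2 = 6 := by
      rw [show (29120 : ℕ) = 2 ^ 6 * 455 by norm_num, Nat.factorization_mul (by norm_num) (by norm_num),
        Nat.Prime.factorization_pow Nat.prime_two]
      rw [Finsupp.add_apply, Finsupp.single_eq_same, Nat.factorization_eq_zero_of_not_dvd (by norm_num)]
    rw [card_subgroupOf_eq, h0, card_X8, hF, hc, h1]
    norm_num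
  let P : Sylow 2 ↥(LL S) := Sylow.ofCard _ hA
  have hP : (P : Subgroup ↥(LL S)) = ((cc S).X (8 : ℕ)).subgroupOf (LL S) := rfl
  let x : ↥(LL S) := ⟨l, hl⟩
  have hx : (x ^ 455) ^ 64 = 1 := by
    rw [← pow_mul, show 455 * 64 = 29120 by norm_num, ← hc]
    exact pow_card_eq_one'
  have hpg : IsPGroup 2 ↥(Subgroup.zpowers (x ^ 455)) := by
    rw [IsPGroup.iff_orderOf]
    rintro ⟨y, hy⟩
    rw [Subgroup.orderOf_mk]
    obtain ⟨j, rfl⟩ := Subgroup.mem_zpowers_iff.1 hy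
    have h1 : orderOf ((x ^ 455) ^ j) ∣ 2 ^ 6 := by
      refine orderOf_dvd_of_pow_eq_one ?_
      rw [show (2 : ℕ) ^ 6 = 64 by norm_num, ← zpow_natCast, ← zpow_mul, mul_comm, zpow_mul, zpow_natCast, hx, one_zpow]
    obtain ⟨i, -, hi⟩ := (Nat.dvd_prime_pow Nat.prime_two).1 h1
    exact ⟨i, hi⟩
  obtain ⟨Q, hQ⟩ := hpg.exists_le_sylow
  obtain ⟨g, hg⟩ := MulAction.exists_smul_eq ↥(LL S) Q P
  have h1 : g * x ^ 455 * g⁻¹ ∈ (P : Subgroup ↥(LL S)) := by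
    rw [← hg, Sylow.coe_subgroup_smul]
    have h2 : x ^ 455 ∈ (Q : Subgroup ↥(LL S)) := hQ (Subgroup.mem_zpowers _)
    have := Subgroup.smul_mem_pointwise_smul _ (MulAut.conj g) _ h2
    simpa [MulAut.smul_def] using this
  rw [hP, Subgroup.mem_subgroupOf] at h1
  have h2 := pow_four S h1
  have h3 : (g * x ^ 455 * g⁻¹) ^ 4 = 1 := by
    apply Subtype.ext
    rw [Subgroup.coe_pow, h2, Subgroup.coe_one]
  rw [conj_pow, conj_eq_one_iff, ← pow_mul, show 455 * 4 = 1820 by norm_num] at h3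
  have h4 := congrArg Subtype.val h3
  rw [Subgroup.coe_pow] at h4
  exact h4

end full

/-- **The exponent modulo the unipotent radical**: abstract form. -/
theorem pow_mem {G : Type*} [Group G] {Pi UP LS Z : Subgroup G} {n : ℕ}
    (hmem : ∀ g ∈ Pi, ∃ u ∈ UP, ∃ l ∈ LS, ∃ z ∈ Z, g = u * l * z) (hUP : ∀ p ∈ Pi, ∀ u ∈ UP, p * u * p⁻¹ ∈ UP)
    (hLS : LS ≤ Pi) (hZ : Z ≤ Pi) (hc : ∀ l ∈ LS, ∀ z ∈ Z, l * z = z * l) (h1 : ∀ l ∈ LS, l ^ n = 1)
    (h2 : ∀ z ∈ Z, z ^ n = 1) {p : G} (hp : p ∈ Pi) : p ^ n ∈ UP := by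
  obtain ⟨u, hu, l, hl, z, hz, rfl⟩ := hmem p hp
  have hm : l * z ∈ Pi := mul_mem (hLS hl) (hZ hz)
  have key : ∀ k : ℕ, ∃ v ∈ UP, (u * l * z) ^ k = v * (l * z) ^ k := by
    intro k
    induction k with
    | zero => exact ⟨1, one_mem _, by simp⟩
    | succ k ih =>
      obtain ⟨v, hv, e⟩ := ih
      refine ⟨v * ((l * z) ^ k * u * ((l * z) ^ k)⁻¹), mul_mem hv (hUP _ (Subgroup.pow_mem _ hm k) _ hu), ?_⟩
      rw [pow_succ, e, pow_succ (l * z)]
      group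
  obtain ⟨v, hv, e⟩ := key n
  have hcom : Commute l z := hc l hl z hz
  rw [e, hcom.mul_pow, h1 l hl, h2 z hz, one_mul, mul_one]
  exact hv

end Cfsg.Agent.H83.TF8

namespace Cfsg.Agent.H83.TF8

open Cfsg.Agent.KFacts.TwF4 Cfsg.Agent.KFacts.TwF4.Arc Cfsg.Agent.KFacts.TwF4.Inv

universe u

section torus

variable {F : Type*} [Field F] {σ : F →+* F} {G : Type u} [Group G] (S : Full σ G) [Finite F]

theorem pow_h (c d : Fˣ) (n : ℕ) : S.h c d ^ (n + 1) = S.h (c ^ (n + 1)) (d ^ (n + 1)) := by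
  induction n with
  | zero => simp
  | succ n ih => rw [pow_succ, ih, S.h_mul, ← pow_succ, ← pow_succ]

/-- The torus of `²F₄(8)` has exponent `7`. -/
theorem pow_T (hF : Nat.card F = 8) {t : G} (ht : t ∈ S.T) : t ^ 7 = 1 := by
  obtain ⟨c, d, rfl⟩ := S.mem_T.1 ht
  have h7 : ∀ c : Fˣ, c ^ 7 = 1 := by
    intro c
    have h1 : Nat.card Fˣ = 7 := by rw [Nat.card_units, hF]
    rw [← h1]
    exact pow_card_eq_one'
  have h1 : S.h (1 : Fˣ) 1 = 1 := by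
    have h2 := S.h_mul 1 1 1 1
    rw [one_mul] at h2
    exact mul_eq_left.1 h2
  rw [show (7 : ℕ) = 6 + 1 by norm_num, pow_h, show 6 + 1 = 7 by norm_num, h7, h7, h1]

theorem pow_T' (hF : Nat.card F = 8) {t : G} (ht : t ∈ S.T) : t ^ 1820 = 1 := by
  rw [show 1820 = 7 * 260 by norm_num, pow_mul, pow_T S hF ht, one_pow]

end torus

end Cfsg.Agent.H83.TF8
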