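import Cfsg.Agent.H83.TF8.Exp

/-!
# `²F₄(8)`: the parabolic subgroup `P = J 1 7 · ⟨X_0, X_8⟩ · {h 1 d}` (helper83)

`B = J 1 8 · T`, `P = B ∪ B n2 B`: `fac`, `conj17`, `pow_par` : `p ^ 1820 ∈ J 1 7` for all `p ∈ P` if `|F| = 8`.
-/

set_option autoImplicit false
set_option linter.unusedSectionVars false

namespace Cfsg.Agent.H83.TF8

open Cfsg.Agent.SplitTwo Cfsg.Agent.SplitTwo.ZS Cfsg.Agent.TitsThree.RankTwoZ
open Cfsg.Agent.KFacts.TwF4 Cfsg.Agent.KFacts.TwF4.Arc Cfsg.Agent.KFacts.TwF4.Inv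
open Cfsg.Agent.H84.TwF4Two Cfsg.Agent.H84.GaussTwF4

universe u

variable {F : Type*} [Field F] {σ : F →+* F} {G : Type u} [Group G] {S : Full σ G}

/-- the torus elements centralising the Levi factor -/
def ZC (S : Full σ G) : Subgroup G where
  carrier := {g | ∃ d : Fˣ, g = S.h 1 d}
  mul_mem' := by
    rintro _ _ ⟨c, rfl⟩ ⟨d, rfl⟩
    exact ⟨c * d, by rw [S.h_mul, one_mul]⟩
  one_mem' := ⟨1, S.h_one.symm⟩
  inv_mem' := by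
    rintro _ ⟨c, rfl⟩
    exact ⟨c⁻¹, by rw [S.h_inv, inv_one]⟩

theorem mem_ZC {g : G} : g ∈ ZC S ↔ ∃ d : Fˣ, g = S.h 1 d := Iff.rfl

theorem ZC_le_T : ZC S ≤ S.T := by
  rintro _ ⟨d, rfl⟩
  exact S.mem_T.2 ⟨_, _, rfl⟩

theorem comm_ZC {l z : G} (hl : l ∈ LL S) (hz : z ∈ ZC S) : l * z = z * l := by
  obtain ⟨d, rfl⟩ := hz
  exact (h_comm_LL d hl).symm

theorem T_conj17 {t u : G} (ht : t ∈ S.T) (hu : u ∈ J S.XZ 1 7) : t * u * t⁻¹ ∈ J S.XZ 1 7 := by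
  have : J S.XZ 1 7 ≤ (J S.XZ 1 7).comap (MulAut.conj t).toMonoidHom :=
    J_le fun k h1 h2 y hy => ZS.mem_J (S.T_conj ht k hy) h1 h2
  exact this hu

/-- the torus is `(T ∩ L) Z` -/
theorem T_split [Finite F] {t : G} (ht : t ∈ S.T) : ∃ l ∈ LL S, ∃ z ∈ ZC S, t = l * z := by
  obtain ⟨c, d, rfl⟩ := S.mem_T.1 ht
  have hinj : Function.Injective (Units.map (σ : F →* F)) := by
    intro a b h
    exact Units.ext (σ.injective (congrArg Units.val h))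
  obtain ⟨e, rfl⟩ := Finite.surjective_of_injective hinj c
  exact ⟨_, h_mem_LL e, _, ⟨e⁻¹ * d, rfl⟩, by rw [S.h_mul, mul_one, mul_inv_cancel_left]⟩

/-- the product of two elements of `J 1 7 · L · Z` -/
theorem fac_mul {u l z u' l' z' : G} (hu : u ∈ J S.XZ 1 7) (hl : l ∈ LL S) (hz : z ∈ ZC S) (hu' : u' ∈ J S.XZ 1 7)
    (hl' : l' ∈ LL S) (hz' : z' ∈ ZC S) : ∃ v ∈ J S.XZ 1 7, ∃ m ∈ LL S, ∃ y ∈ ZC S,
      (u * l * z) * (u' * l' * z') = v * m * y := by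
  refine ⟨u * (l * (z * u' * z⁻¹) * l⁻¹), mul_mem hu (LL_conj17 hl (T_conj17 (ZC_le_T hz) hu')), l * l', mul_mem hl hl',
    z * z', mul_mem hz hz', ?_⟩
  have h1 := comm_ZC hl' hz
  calc (u * l * z) * (u' * l' * z') = u * (l * (z * u' * z⁻¹) * l⁻¹) * l * (z * l') * z' := by group
    _ = u * (l * (z * u' * z⁻¹) * l⁻¹) * l * (l' * z) * z' := by rw [h1]
    _ = _ := by group

variable [Finite F] {B Pi : Subgroup G}

/-- **The factorisation of the parabolic subgroup.** -/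
theorem fac (hB : ∀ b ∈ B, ∃ u ∈ J S.XZ 1 8, ∃ t ∈ S.T, b = u * t)
    (hP : ∀ g ∈ Pi, g ∈ B ∨ ∃ a ∈ B, ∃ b ∈ B, g = a * S.n2 * b) {g : G} (hg : g ∈ Pi) :
    ∃ u ∈ J S.XZ 1 7, ∃ l ∈ LL S, ∃ z ∈ ZC S, g = u * l * z := by
  have hb : ∀ b ∈ B, ∃ u ∈ J S.XZ 1 7, ∃ l ∈ LL S, ∃ z ∈ ZC S, b = u * l * z := by
    intro b hb
    obtain ⟨u, hu, t, ht, rfl⟩ := hB b hb
    obtain ⟨v, hv, x, hx, rfl⟩ := S.zsys8.split_rr (a := 1) (b := 8) (by norm_num) (by norm_num) hu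
    rw [show (8 : ℤ) - 1 = 7 by norm_num] at hv
    obtain ⟨l, hl, z, hz, rfl⟩ := T_split ht
    exact ⟨v, hv, x * l, mul_mem (X8_le hx) hl, z, hz, by group⟩
  rcases hP g hg with h | ⟨a, ha, b, hb', rfl⟩
  · exact hb g h
  · obtain ⟨u, hu, l, hl, z, hz, rfl⟩ := hb a ha
    obtain ⟨u', hu', l', hl', z', hz', rfl⟩ := hb b hb'
    obtain ⟨v, hv, m, hm, y, hy, e⟩ := fac_mul hu hl hz (one_mem _) (n2_mem_LL (S := S)) (one_mem _)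
    obtain ⟨v', hv', m', hm', y', hy', e'⟩ := fac_mul hv hm hy hu' hl' hz'
    refine ⟨v', hv', m', hm', y', hy', ?_⟩
    rw [← e', ← e, one_mul, mul_one]

/-- `J 1 7` is normal in the parabolic subgroup. -/
theorem par_conj (hB : ∀ b ∈ B, ∃ u ∈ J S.XZ 1 8, ∃ t ∈ S.T, b = u * t)
    (hP : ∀ g ∈ Pi, g ∈ B ∨ ∃ a ∈ B, ∃ b ∈ B, g = a * S.n2 * b) {g u : G} (hg : g ∈ Pi) (hu : u ∈ J S.XZ 1 7) :
    g * u * g⁻¹ ∈ J S.XZ 1 7 := by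
  obtain ⟨v, hv, l, hl, z, hz, rfl⟩ := fac hB hP hg
  have e : v * l * z * u * (v * l * z)⁻¹ = v * (l * (z * u * z⁻¹) * l⁻¹) * v⁻¹ := by group
  rw [e]
  exact mul_mem (mul_mem hv (LL_conj17 hl (T_conj17 (ZC_le_T hz) hu))) (inv_mem hv)

/-- the subgroups of the parabolic subgroup -/
theorem LL_le_par (hBP : B ≤ Pi) (hn : S.n2 ∈ Pi) (hU : J S.XZ 1 8 ≤ B) : LL S ≤ Pi := by
  have h8 : S.XZ 8 ≤ Pi := (X_le_J (by norm_num) (by norm_num)).trans (hU.trans hBP)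
  refine sup_le h8 ?_
  intro x hx
  have h1 : S.n2 * x * S.n2⁻¹ ∈ S.XZ 8 := by
    have := (S.n2_refl 0 x).1 hx
    rwa [sub_zero] at this
  have e : x = S.n2⁻¹ * (S.n2 * x * S.n2⁻¹) * S.n2 := by group
  rw [e]
  exact mul_mem (mul_mem (inv_mem hn) (h8 h1)) hn

theorem ZC_le_par (hBP : B ≤ Pi) (hT : S.T ≤ B) : ZC S ≤ Pi := ZC_le_T.trans (hT.trans hBP)

/-- **`p ^ 1820 ∈ J 1 7` for all `p` of the parabolic subgroup of `²F₄(8)`.** -/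
theorem pow_par [Finite G] (hF : Nat.card F = 8) (hBP : B ≤ Pi) (hn : S.n2 ∈ Pi) (hU : J S.XZ 1 8 ≤ B) (hT : S.T ≤ B)
    (hB : ∀ b ∈ B, ∃ u ∈ J S.XZ 1 8, ∃ t ∈ S.T, b = u * t)
    (hP : ∀ g ∈ Pi, g ∈ B ∨ ∃ a ∈ B, ∃ b ∈ B, g = a * S.n2 * b) {p : G} (hp : p ∈ Pi) : p ^ 1820 ∈ J S.XZ 1 7 :=
  Cfsg.Agent.H83.TF8.pow_mem (Pi := Pi) (UP := J S.XZ 1 7) (LS := LL S) (Z := ZC S) (fun _ hg => fac hB hP hg)
    (fun _ hg _ hu => par_conj hB hP hg hu) (LL_le_par hBP hn hU) (ZC_le_par hBP hT) (fun _ hl _ hz => comm_ZC hl hz)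
    (fun _ hl => pow_LL S hF hl) (fun _ hz => pow_T' S hF (ZC_le_T hz)) hp

end Cfsg.Agent.H83.TF8
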